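import Groth.Agent.Lib.CMReg18.Hyperplane
import Groth.Agent.Lib.TFOne27.Special
import Groth.Agent.Lib.HomO15.Sections
import Groth.Agent.Lib.FitGen26.Basic
import Groth.Agent.Lib.NumPoly18.HodgeIndex
import Groth.Agent.Lib.NumPoly18.InterLen
import Groth.Agent.Lib.ModM1.Pull
import Mathlib.AlgebraicGeometry.AlgClosed.Basic

/-!
# Removing a rational point from a module raises the regularity by at most one
-/

set_option autoImplicit false
set_option linter.style.haveILetI false
set_option linter.unusedSectionVars false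
set_option backward.isDefEq.respectTransparency false
set_option backward.isDefEq.respectTransparency.types false

universe u

open CategoryTheory CategoryTheory.Limits AlgebraicGeometry TopologicalSpace Opposite

noncomputable section

namespace Groth.Agent.FinReg12

open Groth.Agent CurveCoh17

variable {X : Scheme.{u}} {k : Type u} [Field k] (j : Spec (CommRingCat.of k) ⟶ X) [IsClosedImmersion j]

/-- Supported on the rational point and killed by its maximal ideal. -/
def IsSky (Q : X.Modules) : Prop :=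
  (∀ x, x ∉ Set.range j → ∀ a : Q.presheaf.stalk x, a = 0) ∧
    ∀ (z : Spec (CommRingCat.of k)) (r : X.presheaf.stalk (j z)), j.stalkMap z r = 0 →
      ∀ m : Q.presheaf.stalk (j z), r • m = 0

theorem isSky_push (N : (Spec (CommRingCat.of k)).Modules) : IsSky j ((Scheme.Modules.pushforward j).obj N) :=
  ⟨fun _ hx a => M1.eq_zero_stalk_push j N hx a, HomO15.smul_stalk_eq_zero j (HomO15.killed_push j N)⟩

theorem IsSky.tensor {Q : X.Modules} (h : IsSky j Q) (E : X.Modules) : IsSky j (CohB1.tensorMod Q E) := by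
  refine ⟨fun x hx a => (M2.stalkEquiv Q E x).injective ?_, fun z r hr a => (M2.stalkEquiv Q E (j z)).injective ?_⟩
  · rw [map_zero]
    induction M2.stalkEquiv Q E x a using TensorProduct.induction_on with
    | zero => rfl
    | tmul p q => rw [h.1 x hx p, TensorProduct.zero_tmul]
    | add p q hp hq => rw [hp, hq, add_zero]
  · rw [map_smul, map_zero]
    induction M2.stalkEquiv Q E (j z) a using TensorProduct.induction_on with
    | zero => exact smul_zero r
    | tmul p q => rw [TensorProduct.smul_tmul', h.2 z r hr p, TensorProduct.zero_tmul]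
    | add p q hp hq => rw [smul_add, hp, hq, add_zero]

/-- The map to the fibre at the point. -/
abbrev toPt (F : X.Modules) : F ⟶ (Scheme.Modules.pushforward j).obj ((Scheme.Modules.pullback j).obj F) :=
  (Scheme.Modules.pullbackPushforwardAdjunction j).unit.app F

theorem bijective_stalkPush (F : X.Modules) (z : Spec (CommRingCat.of k)) :
    Function.Bijective (TopCat.Presheaf.stalkPushforward AddCommGrpCat.{u} j.base
      ((Scheme.Modules.pullback j).obj F).presheaf z) := by
  have := TopCat.Presheaf.stalkPushforward.stalkPushforward_iso_of_isInducing (C := AddCommGrpCat.{u})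
    (f := j.base) j.isClosedEmbedding.isInducing ((Scheme.Modules.pullback j).obj F).presheaf z
  exact ConcreteCategory.bijective_of_isIso _

theorem toPt_stalk (F : X.Modules) (z : Spec (CommRingCat.of k)) (a : F.presheaf.stalk (j z)) :
    TopCat.Presheaf.stalkPushforward AddCommGrpCat.{u} j.base ((Scheme.Modules.pullback j).obj F).presheaf z
      ((M1.stalkAb (j z)).map (toPt j F) a) = M2.stalkUnit j z F a := rfl

theorem epi_toPt (F : X.Modules) : Epi (toPt j F) := by
  refine (M1.epi_iff_stalk _).2 fun x b => ?_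
  by_cases hx : x ∈ Set.range j
  · obtain ⟨z, rfl⟩ := hx
    obtain ⟨a, ha⟩ := TFOne27.surjective_stalkUnit j F z
      (TopCat.Presheaf.stalkPushforward AddCommGrpCat.{u} j.base ((Scheme.Modules.pullback j).obj F).presheaf z b)
    exact ⟨a, (bijective_stalkPush j F z).1 ((toPt_stalk j F z a).trans ha)⟩
  · exact ⟨0, (map_zero _).trans ((isSky_push j _).1 x hx b).symm⟩

theorem mem_of_toPt_eq_zero (F : X.Modules) (z : Spec (CommRingCat.of k)) {a : F.presheaf.stalk (j z)}
    (h : stalkLin (toPt j F) (j z) a = 0) :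
    a ∈ RingHom.ker (j.stalkMap z).hom • (⊤ : Submodule (X.presheaf.stalk (j z)) (F.presheaf.stalk (j z))) := by
  refine (TFOne27.stalkUnit_eq_zero j F z a).1 ((toPt_stalk j F z a).symm.trans ?_)
  exact (congrArg _ h).trans (map_zero _)

variable [X.Over (Spec (CommRingCat.of k))] (hj : j ≫ (X ↘ Spec (CommRingCat.of k)) = 𝟙 _)
include hj

theorem exists_scalar (z : Spec (CommRingCat.of k)) (c : X.presheaf.stalk (j z)) :
    ∃ a : k, j.stalkMap z (c - X.presheaf.germ ⊤ (j z) trivial (Coh.toGlobal (X ↘ Spec (CommRingCat.of k)) a)) = 0 := by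
  obtain ⟨V, hV, t, ht⟩ := (Spec (CommRingCat.of k)).presheaf.exists_germ_eq (j.stalkMap z c)
  obtain rfl : V = ⊤ := eq_top_iff.2 fun w _ => by
    rw [show w = z from Subsingleton.elim (α := PrimeSpectrum k) _ _]; exact hV
  obtain ⟨a, rfl⟩ := (ConcreteCategory.bijective_of_isIso (Scheme.ΓSpecIso (CommRingCat.of k)).inv).2 t
  refine ⟨a, ?_⟩
  rw [map_sub, sub_eq_zero, Scheme.Hom.germ_stalkMap_apply, ← ht]
  refine congrArg ((Spec (CommRingCat.of k)).presheaf.germ ⊤ z hV) ?_
  have h2 := congrArg (fun φ => φ.hom ((Scheme.ΓSpecIso (CommRingCat.of k)).inv a)) (congrArg Scheme.Hom.appTop hj)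
  rw [Scheme.Hom.comp_appTop, Scheme.Hom.id_appTop] at h2
  exact h2.symm

/-- Global sections surject onto a point quotient of a generated module. -/
theorem surjective_app_top {M Q : X.Modules} (hM : Curv2.IsGloballyGenerated M) (hQ : IsSky j Q) (q : M ⟶ Q)
    [Epi q] : Function.Surjective (q.app ⊤) := fun t => by
  obtain ⟨ι, p, hp⟩ := hM
  haveI := hp
  let z₀ : Spec (CommRingCat.of k) := IsLocalRing.closedPoint k
  obtain ⟨b, hb⟩ := (M1.epi_iff_stalk (p ≫ q)).1 (epi_comp _ _) (j z₀) (Q.presheaf.germ ⊤ (j z₀) trivial t)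
  have hm := FitGen26.stalkMap_free (p ≫ q) (j z₀) b
  rw [show RefHull.stalkMapₗ (p ≫ q) (j z₀) b = Q.presheaf.germ ⊤ (j z₀) trivial t from hb] at hm
  suffices h : ∃ v, Q.presheaf.germ ⊤ (j z₀) trivial (q.app ⊤ v) = Q.presheaf.germ ⊤ (j z₀) trivial t by
    obtain ⟨v, hv⟩ := h
    refine ⟨v, M1.section_ext _ _ fun x hx => ?_⟩
    by_cases hxr : x ∈ Set.range j
    · obtain ⟨z, rfl⟩ := hxr
      obtain rfl : z = z₀ := Subsingleton.elim (α := PrimeSpectrum k) _ _
      exact hv
    · exact (hQ.1 x hxr _).trans (hQ.1 x hxr _).symm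
  refine Submodule.span_induction (p := fun w _ => ∃ v, Q.presheaf.germ ⊤ (j z₀) trivial (q.app ⊤ v) = w) ?_ ?_ ?_ ?_ hm
  · rintro _ ⟨i, rfl⟩
    exact ⟨M1.freeSec p i, rfl⟩
  · exact ⟨0, by rw [map_zero]; exact map_zero _⟩
  · rintro a b _ _ ⟨v, rfl⟩ ⟨w, rfl⟩
    exact ⟨v + w, by rw [map_add]; exact map_add _ _ _⟩
  · rintro c _ _ ⟨v, rfl⟩
    obtain ⟨a, ha⟩ := exists_scalar j hj z₀ c
    refine ⟨(show Γ(X, ⊤) from Coh.toGlobal (X ↘ Spec (CommRingCat.of k)) a) • v, ?_⟩
    have h1 := hQ.2 z₀ _ ha (Q.presheaf.germ ⊤ (j z₀) trivial (q.app ⊤ v))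
    rw [sub_smul, sub_eq_zero] at h1
    refine Eq.trans ?_ h1.symm
    rw [Scheme.Modules.Hom.app_smul, M1.germ_smul]

omit hj

theorem dim_support_le {Q : X.Modules} (hQ : IsSky j Q) [IsProper (X ↘ Spec (CommRingCat.of k))] :
    topologicalKrullDim (CohB1.support Q) ≤ ((0 : ℕ) : WithBot ℕ∞) := by
  haveI : Subsingleton (Spec (CommRingCat.of k)) := inferInstanceAs (Subsingleton (PrimeSpectrum k))
  refine Snapper.dim_le_of_subset (A := CohB1.support Q) (B := Set.range j) (fun x hx => by_contra fun hxr => hx ?_)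
    (InterLen.dim_le_zero_of_finite (k := k) j.isClosedEmbedding.isClosed_range (Set.finite_range j))
  exact subsingleton_of_forall_eq 0 (hQ.1 x hxr)

include hj

set_option maxHeartbeats 800000 in
/-- Removing a rational point costs one step of regularity. -/
theorem isReg_kernel [IsProper (X ↘ Spec (CommRingCat.of k))] (D : CMReg18.TwistData X)
    (hA : CohB1.IsAmple (D.O 1)) {F : X.Modules} (hF : Coh.IsCoh F) {m : ℤ} (h : D.IsReg F m) :
    D.IsReg (kernel (toPt j F)) (m + 1) := by
  haveI := epi_toPt j F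
  let S := ShortComplex.mk (kernel.ι (toPt j F)) (toPt j F) (kernel.condition _)
  have hS : S.ShortExact := { exact := ShortComplex.exact_of_f_is_kernel _ (kernelIsKernel _) }
  have hQ : Coh.IsCoh ((Scheme.Modules.pushforward j).obj ((Scheme.Modules.pullback j).obj F)) :=
    CohFound.isCoh_push_closedImm j (M1.isCoh_pullback j hF)
  have hgg := h.isGloballyGenerated D k (D.exists_gg_large hA hF)
  intro i hi
  obtain rfl | hi' := eq_or_ne i 1
  · have hS' := D.shortExact_tw hS m
    haveI := hS'.epi_g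
    have hsurj : Function.Surjective (hmap k (S.map (M2.tensorR (D.O m))).g 0) := fun y => by
      obtain ⟨v, hv⟩ := surjective_app_top j hj hgg (IsSky.tensor j (isSky_push j _) (D.O m))
        (S.map (M2.tensorR (D.O m))).g (hh0 _ y)
      refine ⟨(hh0 _).symm v, (hh0 _).injective ?_⟩
      rw [hh0_hmap, AddEquiv.apply_symm_apply]
      exact hv
    have h2 : Subsingleton (Coh.HH X (S.map (M2.tensorR (D.O m))).X₂ 1) := (h.of_le k (show m ≤ m + 1 by omega)) 1 le_rfl |> fun h' =>
      CMReg18.van_iso k (D.twIso F (show m + 1 - ((1 : ℕ) : ℤ) = m by omega)) h'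
    refine CMReg18.van_iso k (D.twIso _ (show m = m + 1 - ((1 : ℕ) : ℤ) by omega))
      (subsingleton_of_forall_eq 0 fun x => ?_)
    obtain ⟨y, rfl⟩ := (exact_hdelta_hmap k hS' 0 x).1 (Subsingleton.elim _ _)
    exact (exact_hmap_hdelta k hS' 0 y).2 (hsurj y)
  · obtain ⟨p, rfl⟩ : ∃ p, i = p + 1 := ⟨i - 1, by omega⟩
    have hQt : Coh.IsCoh (CohB1.tensorMod ((Scheme.Modules.pushforward j).obj ((Scheme.Modules.pullback j).obj F))
        (D.O (m + 1 - ((p + 1 : ℕ) : ℤ)))) :=
      CurveCoh17.isCoh_tensor hQ (Snapper.isCoh_of_isInvertible (D.inv _))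
    exact CMReg18.van₁ k (D.shortExact_tw hS _)
      (NumPoly18.subsingleton_HH_of_support (k := k) hQt (d := 0)
        (dim_support_le j (IsSky.tensor j (isSky_push j _) _)) (by omega))
      ((h.of_le k (show m ≤ m + 1 by omega)) (p + 1) hi)

end Groth.Agent.FinReg12
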