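import Groth.Agent.Lib.FinReg12.Basic
import Groth.Agent.Lib.CurveCoh17.Twist
import Groth.Agent.S0844
import Groth.Agent.S12905
import Groth.Prelude.Def_Curv2

/-!
# Regularity of the ideal of a finite subscheme of projective space
-/

set_option autoImplicit false
set_option linter.style.haveILetI false
set_option linter.unusedSectionVars false
set_option backward.isDefEq.respectTransparency false
set_option backward.isDefEq.respectTransparency.types false

universe u

open CategoryTheory CategoryTheory.Limits AlgebraicGeometry TopologicalSpace Opposite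

noncomputable section

namespace Groth.Agent.FinReg12

open Groth.Agent CurveCoh17

theorem stalkLin_comp' {X : Scheme.{u}} {A B C : X.Modules} (f : A ⟶ B) (g : B ⟶ C) (x : X)
    (a : A.presheaf.stalk x) : stalkLin (f ≫ g) x a = stalkLin g x (stalkLin f x a) := by
  rw [CurveCoh17.stalkLin_comp]; try rfl

theorem stalkLin_zero' {X : Scheme.{u}} {A B : X.Modules} (x : X) (a : A.presheaf.stalk x) :
    stalkLin (0 : A ⟶ B) x a = 0 := by
  rw [stalkLin_apply, Functor.map_zero]; rfl

theorem stalkLin_id' {X : Scheme.{u}} {A : X.Modules} (x : X) (a : A.presheaf.stalk x) :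
    stalkLin (𝟙 A) x a = a := by
  rw [stalkLin_apply, CategoryTheory.Functor.map_id]; rfl

theorem isReg_structureModule (k : Type u) [Field k] (n : ℕ) :
    (CMReg18.projData k n).IsReg (Coh.structureModule (CohB1.ProjSpace n k)) 0 := fun i hi =>
  CMReg18.van_iso k (M2.tensorLUnit _).symm
    (Groth.Agent.S0844.result k n (0 - i) i (fun h => by omega) (fun h => by omega))

variable {k : Type u} [Field k] [IsAlgClosed k] {N : ℕ}

local notation "P" => CohB1.ProjSpace N k

theorem exists_steps {x : ↥(CohB1.ProjSpace N k)} (hx : IsClosed ({x} : Set (CohB1.ProjSpace N k)))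
    {F : (CohB1.ProjSpace N k).Modules} (hF : Coh.IsCoh F) {m : ℤ} (h : (CMReg18.projData k N).IsReg F m) :
    ∀ n : ℕ, ∃ (F' : (CohB1.ProjSpace N k).Modules) (r : F' ⟶ F), Mono r ∧ Coh.IsCoh F' ∧
      (CMReg18.projData k N).IsReg F' (m + n) ∧ (∀ y, y ≠ x → Function.Surjective (stalkLin r y)) ∧
      ∀ a, stalkLin r x a ∈ IsLocalRing.maximalIdeal ((CohB1.ProjSpace N k).presheaf.stalk x) ^ n •
        (⊤ : Submodule ((CohB1.ProjSpace N k).presheaf.stalk x) (F.presheaf.stalk x)) := by
  haveI := CMReg18.isProper_projSpace k (n := N)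
  haveI : IsNoetherian (CohB1.ProjSpace N k) :=
    CohFound.isNoetherian_of_isProper (CohB1.ProjSpace N k ↘ Spec (CommRingCat.of k))
  let str := CohB1.ProjSpace N k ↘ Spec (CommRingCat.of k)
  haveI : LocallyOfFiniteType str := inferInstance
  let j := pointOfClosedPoint str x hx
  have hj : j ≫ str = 𝟙 _ := pointOfClosedPoint_comp str x hx
  haveI : IsClosedImmersion (j ≫ str) := by rw [hj]; infer_instance
  haveI : IsClosedImmersion j := IsClosedImmersion.of_comp j str
  have hjx : ∀ z, j z = x := fun z => pointOfClosedPoint_apply str x hx z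
  intro n
  induction n with
  | zero =>
    refine ⟨F, 𝟙 F, inferInstance, hF, by simpa using h, fun y _ b => ⟨b, ?_⟩, fun a => ?_⟩
    · exact stalkLin_id' y b
    · rw [pow_zero, Ideal.one_eq_top, Submodule.top_smul]; trivial
  | succ n ih =>
    obtain ⟨G, r, hr, hG, hreg, hoff, hdeep⟩ := ih
    refine ⟨kernel (toPt j G), kernel.ι (toPt j G) ≫ r, inferInstance,
      M1.isCoh_kernel hG (CohFound.isCoh_push_closedImm j (M1.isCoh_pullback j hG)).1 _, ?_,
      fun y hy b => ?_, fun a => ?_⟩
    · have := isReg_kernel j hj (CMReg18.projData k N) (CMReg18.isAmple_twistOne k) hG hreg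
      rwa [show m + ((n + 1 : ℕ) : ℤ) = m + n + 1 by push_cast; ring]
    · obtain ⟨c, rfl⟩ := hoff y hy b
      obtain ⟨a, ha⟩ := TFOne27.exact_kernel_stalk (toPt j G) y c
        ((isSky_push j _).1 y (fun ⟨z, hz⟩ => hy (hz ▸ hjx z)) _)
      exact ⟨a, by rw [stalkLin_comp', ha]⟩
    · suffices main : ∀ x', j (IsLocalRing.closedPoint k) = x' → ∀ a : (kernel (toPt j G)).presheaf.stalk x',
          (∀ g, stalkLin r x' g ∈ IsLocalRing.maximalIdeal ((CohB1.ProjSpace N k).presheaf.stalk x') ^ n •
            (⊤ : Submodule ((CohB1.ProjSpace N k).presheaf.stalk x') (F.presheaf.stalk x'))) →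
          stalkLin (kernel.ι (toPt j G) ≫ r) x' a ∈
            IsLocalRing.maximalIdeal ((CohB1.ProjSpace N k).presheaf.stalk x') ^ (n + 1) •
              (⊤ : Submodule ((CohB1.ProjSpace N k).presheaf.stalk x') (F.presheaf.stalk x')) from
        main x (hjx _) a hdeep
      rintro _ rfl a hd
      let z := IsLocalRing.closedPoint k
      have h0 : stalkLin (toPt j G) (j z) (stalkLin (kernel.ι (toPt j G)) (j z) a) = 0 := by
        rw [← stalkLin_comp', kernel.condition]
        exact stalkLin_zero' _ _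
      have h1 := mem_of_toPt_eq_zero j G z h0
      rw [stalkLin_comp']
      refine Submodule.smul_induction_on h1 (fun c hc g _ => ?_) (fun g g' hg hg' => by rw [map_add]; exact add_mem hg hg')
      rw [map_smul, pow_succ', mul_smul]
      refine Submodule.smul_mem_smul ?_ (hd g)
      refine IsLocalRing.le_maximalIdeal ?_ hc
      exact RingHom.ker_ne_top _

/-- An ideal cut out at the chosen points to the given orders, with small regularity. -/
theorem exists_ideal {ι : Type*} (p : ι → ↥(CohB1.ProjSpace N k))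
    (hp : ∀ a, IsClosed ({p a} : Set (CohB1.ProjSpace N k))) (e : ι → ℕ) (s : Finset ι) :
    ∃ (F : (CohB1.ProjSpace N k).Modules) (r : F ⟶ Coh.structureModule (CohB1.ProjSpace N k)), Mono r ∧
      Coh.IsCoh F ∧ (CMReg18.projData k N).IsReg F (∑ a ∈ s, (e a : ℤ)) ∧
      (∀ y, (∀ a, p a ≠ y) → Function.Surjective (stalkLin r y)) ∧
      ∀ a ∈ s, ∀ b, stalkLin r (p a) b ∈ IsLocalRing.maximalIdeal ((CohB1.ProjSpace N k).presheaf.stalk (p a)) ^ e a •
        (⊤ : Submodule ((CohB1.ProjSpace N k).presheaf.stalk (p a)) ((Coh.structureModule (CohB1.ProjSpace N k)).presheaf.stalk (p a))) := by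
  classical
  haveI := CMReg18.isProper_projSpace k (n := N)
  haveI : IsNoetherian (CohB1.ProjSpace N k) :=
    CohFound.isNoetherian_of_isProper (CohB1.ProjSpace N k ↘ Spec (CommRingCat.of k))
  induction s using Finset.induction_on with
  | empty =>
    refine ⟨_, 𝟙 _, inferInstance, M1.isCoh_structureModule _, by simpa using isReg_structureModule k N,
      fun y _ b => ⟨b, ?_⟩, fun a ha => absurd ha (Finset.notMem_empty a)⟩
    exact stalkLin_id' y b
  | insert a s has ih =>
    obtain ⟨F, r, hr, hF, hreg, hoff, hdeep⟩ := ih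
    obtain ⟨F', r', hr', hF', hreg', hoff', hdeep'⟩ := exists_steps (hp a) hF hreg (e a)
    refine ⟨F', r' ≫ r, inferInstance, hF', ?_, fun y hy b => ?_, fun c hc b => ?_⟩
    · rw [Finset.sum_insert has, add_comm]; exact hreg'
    · obtain ⟨u, rfl⟩ := hoff y hy b
      obtain ⟨v, rfl⟩ := hoff' y (fun h => hy a h.symm) u
      exact ⟨v, stalkLin_comp' _ _ _ _⟩
    · rw [stalkLin_comp']
      rcases Finset.mem_insert.1 hc with rfl | hcs
      · refine Submodule.smul_induction_on (hdeep' b) (fun t ht g _ => ?_) (fun g g' hg hg' => by rw [map_add]; exact add_mem hg hg')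
        rw [map_smul]
        exact Submodule.smul_mem_smul ht trivial
      · exact hdeep c hcs _

/-- The ideal vanishes on the subscheme. -/
theorem comp_toSubscheme_eq_zero {X Y : Scheme.{u}} (i : Y ⟶ X) [IsClosedImmersion i] (μ : Y → ℕ)
    (hμ : ∀ y : Y, IsLocalRing.maximalIdeal (Y.presheaf.stalk y) ^ μ y = ⊥) {F : X.Modules}
    (r : F ⟶ Coh.structureModule X)
    (hr : ∀ y b, stalkLin r (i y) b ∈ IsLocalRing.maximalIdeal (X.presheaf.stalk (i y)) ^ μ y •
      (⊤ : Submodule (X.presheaf.stalk (i y)) ((Coh.structureModule X).presheaf.stalk (i y)))) :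
    r ≫ ClSub.toSubscheme i.ker = 0 := by
  refine Scheme.Modules.hom_ext _ _ fun U => ?_
  ext s
  refine M1.section_ext _ _ fun x hx => ?_
  refine Eq.trans ?_ (map_zero _).symm
  rw [← M1.germ_naturality]
  show stalkLin (r ≫ ClSub.toSubscheme i.ker) x (F.presheaf.germ U x hx s) = 0
  by_cases hxr : x ∈ Set.range i.ker.subschemeι
  · obtain ⟨z, rfl⟩ := hxr
    obtain ⟨y, rfl⟩ := i.toImage.surjective z
    have hy : i.ker.subschemeι (i.toImage y) = i y := by
      rw [← Scheme.Hom.comp_apply]; exact congrArg (fun f : Y ⟶ X => f y) i.toImage_imageι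
    rw [stalkLin_comp']
    have key : ∀ x' (hx' : x' = i y) (b : F.presheaf.stalk x'), stalkLin r x' b ∈
        IsLocalRing.maximalIdeal (X.presheaf.stalk x') ^ μ y •
          (⊤ : Submodule (X.presheaf.stalk x') ((Coh.structureModule X).presheaf.stalk x')) := by
      rintro _ rfl b; exact hr y b
    refine Submodule.smul_induction_on (key _ hy (F.presheaf.germ U _ hx s)) (fun c hc g _ => ?_)
      (fun g g' hg hg' => by rw [map_add, hg, hg', add_zero])
    rw [map_smul]
    refine HomO15.smul_stalk_eq_zero i.ker.subschemeι (HomO15.killed_push _ _) (i.toImage y) c ?_ _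
    have hinj : Function.Injective (i.toImage.stalkMap y) :=
      (ConcreteCategory.bijective_of_isIso (i.toImage.stalkMap y)).1
    refine hinj ((Eq.trans ?_ (map_zero _).symm))
    have h1 : i.toImage.stalkMap y (i.ker.subschemeι.stalkMap (i.toImage y) c) ∈
        IsLocalRing.maximalIdeal (Y.presheaf.stalk y) ^ μ y := by
      have h2 := Ideal.mem_map_of_mem ((i.toImage.stalkMap y).hom.comp (i.ker.subschemeι.stalkMap (i.toImage y)).hom) hc
      rw [Ideal.map_pow] at h2
      refine Ideal.pow_right_mono (Ideal.map_le_iff_le_comap.2 fun d hd => ?_) _ h2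
      show IsUnit _ → False
      intro hu
      exact hd (isUnit_of_map_unit _ _ hu)
    rwa [hμ, Ideal.mem_bot] at h1
  · exact M1.eq_zero_stalk_push i.ker.subschemeι _ hxr _

/-- The regularity bound. -/
theorem isReg_idealMod {Y : Scheme.{u}} (i : Y ⟶ CohB1.ProjSpace N k) [IsClosedImmersion i] [Fintype Y]
    (μ : Y → ℕ) (hμ : ∀ y : Y, IsLocalRing.maximalIdeal (Y.presheaf.stalk y) ^ (μ y + 1) = ⊥) :
    Curv2.IsMRegular k N (ClSub.idealMod i.ker) (∑ y, ((μ y + 1 : ℕ) : ℤ)) := by
  classical
  haveI := CMReg18.isProper_projSpace k (n := N)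
  haveI : IsNoetherian (CohB1.ProjSpace N k) :=
    CohFound.isNoetherian_of_isProper (CohB1.ProjSpace N k ↘ Spec (CommRingCat.of k))
  haveI : LocallyOfFiniteType (i ≫ (CohB1.ProjSpace N k ↘ Spec (CommRingCat.of k))) := inferInstance
  haveI : JacobsonSpace Y := LocallyOfFiniteType.jacobsonSpace (i ≫ (CohB1.ProjSpace N k ↘ Spec (CommRingCat.of k)))
  haveI : DiscreteTopology Y := inferInstance
  have hp : ∀ y, IsClosed ({i y} : Set (CohB1.ProjSpace N k)) := fun y => by
    rw [← Set.image_singleton]; exact i.isClosedEmbedding.isClosedMap _ (isClosed_discrete _)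
  obtain ⟨F, r, hr, hF, hreg, hoff, hdeep⟩ := exists_ideal i hp (fun y => μ y + 1) Finset.univ
  have h0 := comp_toSubscheme_eq_zero i (fun y => μ y + 1) hμ r fun y b => hdeep y (Finset.mem_univ y) b
  let l : F ⟶ ClSub.idealMod i.ker := kernel.lift _ r h0
  haveI : Mono l := mono_of_mono_fac (kernel.lift_ι _ r h0)
  have hI := CurveCoh17.isCoh_idealMod i.ker
  refine Groth.Agent.S12905.result k N F _ hF hI l ?_ _ ((CMReg18.isMRegular_iff k hF.1).2 hreg)
  refine Snapper.dim_le_of_subset (A := CohB1.support (cokernel l)) (B := Set.range i) (fun x hx => by_contra fun hxr => hx ?_)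
    (by simpa using InterLen.dim_le_zero_of_finite (k := k) i.isClosedEmbedding.isClosed_range (Set.finite_range i))
  refine subsingleton_of_forall_eq 0 fun q => ?_
  obtain ⟨a, rfl⟩ := (M1.epi_iff_stalk (cokernel.π l)).1 inferInstance x q
  obtain ⟨b, hb⟩ := hoff x (fun y hy => hxr ⟨y, hy⟩) (stalkLin (ClSub.idealModι i.ker) x a)
  have hlb : stalkLin l x b = a := by
    refine @TFOne27.injective_stalkLin _ _ _ (ClSub.idealModι i.ker) (inferInstanceAs (Mono (kernel.ι _))) x _ _ ?_
    rw [← hb, ← stalkLin_comp']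
    exact congrArg (fun φ => stalkLin φ x b) (kernel.lift_ι _ r h0)
  show stalkLin (cokernel.π l) x a = 0
  rw [← hlb, ← stalkLin_comp', cokernel.condition]
  exact stalkLin_zero' x b

end Groth.Agent.FinReg12
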